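import Mathlib
import Cfsg.Prelude.Def_GeometricClasses
import Cfsg.Agent.Lib.Helper27.ASC.Defs
import Cfsg.Agent.Lib.helper23.ASCO.Defs
import Cfsg.Agent.Lib.Helper19.ASG.Defs
import Cfsg.Agent.Lib.Helper25.ASO.Defs
import Cfsg.Agent.Lib.helper23.ASE.Defs
import Cfsg.Agent.Lib.helper7.EM12.Defs
-- the pieces of project ASE (helper23) used here
import Cfsg.Agent.Lib.helper23.ASEPR
import Cfsg.Agent.Lib.helper23.ASERED
import Cfsg.Agent.Lib.helper23.ASEQRAT
import Cfsg.Agent.Lib.helper23.ASECSWAP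
import Cfsg.Agent.Lib.helper4.ASECGRAM
import Cfsg.Agent.Lib.helper4.ASEPAIRT
import Cfsg.Agent.Lib.Helper16.ASEPAIR2
import Cfsg.Agent.Lib.Helper16.ASEPERP
import Cfsg.Agent.Lib.helper8.ASEPLANE23
import Cfsg.Agent.Lib.Helper13.ASEPLUSDEC
import Cfsg.Agent.Lib.Helper13.ASETAU
import Cfsg.Agent.Lib.Helper10.ASESUB2
import Cfsg.Agent.Lib.helper6.ASETENS2
import Cfsg.Agent.Lib.Helper22.ASETENSPLUS
import Cfsg.Agent.Lib.helper23.ASEODDNDb
-- the pieces of EM12 / E12M (lead)
import Cfsg.Agent.Lib.Helper13.EM12ISOPLUS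
import Cfsg.Agent.Lib.Helper13.EM12PLUSBLK
import Cfsg.Agent.Lib.helper4.EM12PRD3
import Cfsg.Agent.Lib.helper4.EM12PRT
import Cfsg.Agent.Lib.helper8.EM12TENS3SYM
import Cfsg.Agent.Lib.helper4.E12MBLKPLUS
import Cfsg.Agent.Lib.Helper22.E12MTFORM
import Cfsg.Agent.Lib.Helper29.E12MT3Q3
-- landed pieces of ASO
import Cfsg.Agent.Lib.Helper1.ASODEC2
import Cfsg.Agent.Lib.Helper20.ASOIDEM
import Cfsg.Agent.Lib.Helper20.ASOSTAR
import Cfsg.Agent.Lib.Helper25.ASOADJ
-- landed pieces of ASG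
import Cfsg.Agent.Lib.Helper1.ASGCLIF5
import Cfsg.Agent.Lib.Helper1.ASGCNORM
import Cfsg.Agent.Lib.Helper10.ASGCONE
import Cfsg.Agent.Lib.Helper10.ASGCSWAP
import Cfsg.Agent.Lib.Helper20.ASGCDIM
import Cfsg.Agent.Lib.Helper24.ASGCASM
import Cfsg.Agent.Lib.Helper25.ASGCFULL
import Cfsg.Agent.Lib.Helper9.ASGD2TGRP
import Cfsg.Agent.Lib.Helper19.ASGD1GRP
import Cfsg.Agent.Lib.helper23.ASGD1ORDER
import Cfsg.Agent.Lib.helper8.ASCSCHURN
import Cfsg.Agent.Lib.Helper18.ASCSCHURB
import Cfsg.Agent.Lib.Helper28.Ld.Trans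
import Cfsg.Agent.Lib.Helper28.OBundle
import Cfsg.Agent.Lib.Helper28.SubF
-- landed pieces of ASC / ASCO
import Cfsg.Agent.Lib.helper23.ASCOMain
import Cfsg.Agent.Lib.Helper10.ASCIRRNS
import Cfsg.Agent.Lib.Helper21.ASCES3
import Cfsg.Agent.Lib.Helper25.ASCCENT
import Cfsg.Agent.Lib.Helper19.ASCOCONV
import Cfsg.Agent.Lib.Helper9.QD2T
import Cfsg.Agent.S0292

/-!
# Project EM12 (merged with lead's E12M) : assembly of S5874 from the landed pieces of ASE (helper23), EM12 and E12M
-/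

set_option autoImplicit false
set_option linter.unusedVariables false
set_option linter.unusedSectionVars false

namespace Cfsg.Agent.Lib.helper7.EM12

open Cfsg Cfsg.Geo Cfsg.Agent.Lib.Helper27.ASC Cfsg.Agent.Lib.helper23.ASCO Cfsg.Agent.Lib.Helper19.ASG
  Cfsg.Agent.Lib.Helper25.ASO Cfsg.Agent.Lib.helper23.ASE
open scoped MatrixGroups Matrix Kronecker

variable {n : ℕ} {F : Type*} [Field F] [Fintype F]

/-- a totally singular subspace is proper -/
theorem em12_ts_ne_top (hn : 0 < n) (Q : QuadraticForm F (Fin n → F))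
    (hQ : (QuadraticMap.polarBilin Q).Nondegenerate) (W : Submodule F (Fin n → F))
    (hW : IsTotallySingularQuad (⇑Q) W) : W ≠ ⊤ := by
  rintro rfl
  have hQ0 : ∀ v, Q v = 0 := fun v => hW v Submodule.mem_top
  have hB : QuadraticMap.polarBilin Q = 0 := by
    ext u v
    simp [QuadraticMap.polar, hQ0]
  have hne : (Pi.single (⟨0, hn⟩ : Fin n) (1 : F) : Fin n → F) ≠ 0 := by
    intro h
    have := congrFun h ⟨0, hn⟩
    simp at this
  apply hne
  apply hQ.1
  intro y
  rw [hB]
  rfl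

/-- plus type from a totally singular subspace of half the dimension -/
theorem em12_plus_of_ts (Q : (Fin n → F) → F) (U : Submodule F (Fin n → F)) (hU : IsTotallySingularQuad Q U)
    (hd : 2 * Module.finrank F U = n) : IsPlusTypeOn Q ⊤ := by
  refine ⟨U, le_top, hU, ?_⟩
  rw [hd, finrank_top, Module.finrank_fintype_fun_eq_card, Fintype.card_fin]

theorem em12_arith_dec {t k : ℕ} (h : t * k = 12) (ht : 2 ≤ t) :
    (t = 3 ∧ k = 4) ∨ (Even t ∧ (Even k ∨ 4 ∣ t)) := by
  have ht12 : t ≤ 12 := by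
    rcases Nat.eq_zero_or_pos k with hk | hk
    · subst hk; omega
    · nlinarith
  have hk12 : k ≤ 12 := by nlinarith
  interval_cases t <;> interval_cases k <;> simp_all <;> decide

/-- the alternative "three minus blocks" -/
def Dec34 (Q : (Fin 12 → F) → F) (G : Subgroup (GL (Fin 12) F)) : Prop :=
  ∃ D : Fin 3 → Submodule F (Fin 12 → F), IsOrthogonalMDecomposition Q 4 D ∧ (∀ i, ¬ IsPlusTypeOn Q (D i)) ∧
    G ≤ decompositionStabilizer D

/-- an orthogonal decomposition in dimension 12 : plus type, or three blocks of minus type -/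
theorem e12_of_dec (Q : QuadraticForm F (Fin 12 → F)) (hQ : (QuadraticMap.polarBilin Q).Nondegenerate)
    {G : Subgroup (GL (Fin 12) F)} {t k : ℕ} (D : Fin t → Submodule F (Fin 12 → F))
    (hD : IsOrthogonalMDecomposition (⇑Q) k D) (hle : G ≤ decompositionStabilizer D) :
    IsPlusTypeOn (⇑Q) ⊤ ∨ Dec34 (⇑Q) G := by
  have hcard := Cfsg.Agent.Lib.Helper28.Ld.card_eq _ hD.decomp.decomp
  rcases em12_arith_dec hcard hD.decomp.decomp.two_le with ⟨rfl, rfl⟩ | ⟨ht, hk⟩
  · by_cases hp : ∀ i, IsPlusTypeOn (⇑Q) (D i)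
    · exact Or.inl (plus_of_plus_blocks Q hQ D hD.decomp hp)
    · push Not at hp
      obtain ⟨i₀, hi₀⟩ := hp
      refine Or.inr ⟨D, hD, fun i hi => hi₀ (plus_of_isometric (⇑Q) _ _ (hD.isometric i i₀) hi), hle⟩
  · exact Or.inl (plus_of_dec Q hQ _ hD ht hk)

/-- a non-trivial idempotent in the centre of the commutant of a subgroup normalised by an irreducible group of isometries:
plus type, or three blocks of minus type (dimension 12) -/
theorem e12_idem (Q : QuadraticForm F (Fin 12 → F)) (hQ : (QuadraticMap.polarBilin Q).Nondegenerate)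
    {G M : Subgroup (GL (Fin 12) F)} (hG : Irr G) (hGO : G ≤ isometryGroup F (⇑Q)) (hM : NormalIn M G)
    (e₀ : Matrix (Fin 12) (Fin 12) F) (he₀ : e₀ ∈ asgZ M) (hid : e₀ * e₀ = e₀) (h0 : e₀ ≠ 0) (h1 : e₀ ≠ 1) :
    IsPlusTypeOn (⇑Q) ⊤ ∨ Dec34 (⇑Q) G := by
  classical
  obtain ⟨t, E, hE⟩ := idem_system (by norm_num) hG hM e₀ he₀ hid h0 h1
  obtain ⟨τ, hτ, hτ2, hcase⟩ := idem_adj_perm Q hQ hGO hM E hE
  rcases hcase with hfix | hfp
  · have hsa : ∀ i, oadj (⇑Q) (E i) = E i := fun i => by rw [hτ i, hfix i]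
    obtain ⟨k, hD, hle⟩ := odec_of_selfadj Q hQ hGO E hE hsa
    exact e12_of_dec Q hQ _ hD hle
  · by_cases ht2 : t = 2
    · subst ht2
      have h01 : τ 0 = 1 := by
        have := hfp 0
        have h2 : ∀ j : Fin 2, j ≠ 0 → j = 1 := by decide
        exact h2 _ this
      have hτ0 : oadj (⇑Q) (E 0) = E 1 := by rw [hτ 0, h01]
      obtain ⟨k, hD, hts, -⟩ := epair_two (by norm_num) Q hQ hG hGO hM E hE hτ0
      have hcard := Cfsg.Agent.Lib.Helper28.Ld.card_eq _ hD
      refine Or.inl (em12_plus_of_ts (⇑Q) _ (hts 0) ?_)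
      rw [hD.finrank_eq 0]
      omega
    · have ht : 2 < t := by
        have := hE.two_le
        omega
      obtain ⟨t', k', D', hD', hle'⟩ := epair_many Q hQ hGO hM E hE τ hτ hτ2 hfp ht
      exact e12_of_dec Q hQ _ hD' hle'

/-- the alternative "tensor decomposition `3 ⊗ 4`" (odd characteristic, symmetric Gram factors) -/
def Tens34 (Q : (Fin 12 → F) → F) (G : Subgroup (GL (Fin 12) F)) : Prop :=
  ∃ (e : Fin 12 ≃ Fin 3 × Fin 4) (P : GL (Fin 12) F) (A : Matrix (Fin 3) (Fin 3) F) (B : Matrix (Fin 4) (Fin 4) F),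
    (2 : F) ≠ 0 ∧ IsUnit A.det ∧ IsUnit B.det ∧ Aᵀ = A ∧ Bᵀ = B ∧ KronGram (QuadraticMap.polar Q) e P A B ∧
    G ≤ tensorProductSubgroup 3 4 e P

/-- the case `3 ⊗ 4` -/
theorem e12_tens34 (Q : QuadraticForm F (Fin 12 → F)) (hQ : (QuadraticMap.polarBilin Q).Nondegenerate)
    {G : Subgroup (GL (Fin 12) F)} (hG : Irr G) (hGO : G ≤ isometryGroup F (⇑Q))
    (e : Fin 12 ≃ Fin 3 × Fin 4) (P : GL (Fin 12) F) (hGT : G ≤ tensorProductSubgroup 3 4 e P)
    (A : Matrix (Fin 3) (Fin 3) F) (B : Matrix (Fin 4) (Fin 4) F) (hA : IsUnit A.det) (hB : IsUnit B.det)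
    (hsign : (Aᵀ = A ∧ Bᵀ = B) ∨ (Aᵀ = -A ∧ Bᵀ = -B)) (hAB : KronGram (QuadraticMap.polar (⇑Q)) e P A B) :
    IsPlusTypeOn (⇑Q) ⊤ ∨ Tens34 (⇑Q) G := by
  obtain ⟨h2, hAs, hBs⟩ := tens3_sym Q hQ hG hGO (by norm_num) e P hGT A B hA hB hsign hAB
  exact Or.inr ⟨e, P, A, B, h2, hA, hB, hAs, hBs, hAB, hGT⟩

/-- the alternative "field of degree 2 or 3" -/
def Fld23 (G : Subgroup (GL (Fin 12) F)) : Prop :=
  ∃ K : Subalgebra F (Matrix (Fin 12) (Fin 12) F), (IsFieldSubalgebra 2 K ∨ IsFieldSubalgebra 3 K) ∧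
    G ≤ subalgebraNormalizer K

/-- blocks AB + C in dimension 12 -/
theorem e12_dichotomy (Q : QuadraticForm F (Fin 12 → F)) (hQ : (QuadraticMap.polarBilin Q).Nondegenerate)
    {G M : Subgroup (GL (Fin 12) F)} (hG : Irr G) (hGO : G ≤ isometryGroup F (⇑Q)) (hM : NormalIn M G) :
    IsPlusTypeOn (⇑Q) ⊤ ∨ Dec34 (⇑Q) G ∨ Fld23 G ∨ Tens34 (⇑Q) G ∨ M ≤ scalars (Fin 12) F ∨ AbsIrr M := by
  classical
  have hn0 : 0 < 12 := by norm_num
  by_cases hidem : ∀ e ∈ asgZ M, e * e = e → e = 0 ∨ e = 1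
  · have hfield := asgclif_field hn0 hG hM hidem
    by_cases hb2 : 2 ≤ Module.finrank F (asgZ M)
    · -- a field
      right; right; left
      obtain ⟨r, K', hr, -, h1, h2', h3⟩ := asgclif_primesub (asgZ M) hfield hb2
      have hdvd : r ∣ 12 := field_finrank_dvd hn0 K' h1
      have hr23 : r = 2 ∨ r = 3 := by
        have h12 : (12 : ℕ) = 2 ^ 2 * 3 := by norm_num
        rw [h12] at hdvd
        rcases (Nat.Prime.dvd_mul hr).mp hdvd with h | h
        · exact Or.inl ((Nat.prime_dvd_prime_iff_eq hr Nat.prime_two).mp (hr.dvd_of_dvd_pow h))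
        · exact Or.inr ((Nat.prime_dvd_prime_iff_eq hr Nat.prime_three).mp h)
      rcases hr23 with rfl | rfl
      · exact ⟨K', Or.inl h1, (asgclif_normalizes_Z hM).trans h3⟩
      · exact ⟨K', Or.inr h1, (asgclif_normalizes_Z hM).trans h3⟩
    · -- the centre is `F`
      haveI : Nonempty (Fin 12) := ⟨0⟩
      have hb1 : Module.finrank F (asgZ M) = 1 := by
        have h0 : Module.finrank F (asgZ M) ≠ 0 := by
          intro h0
          haveI : Subsingleton (asgZ M) := Module.finrank_zero_iff.mp h0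
          have h01 : (0 : asgZ M) = 1 := Subsingleton.elim _ _
          have h2 := congrArg (fun y : asgZ M => (y : Matrix (Fin 12) (Fin 12) F)) h01
          simp at h2
        omega
      have hbot : asgZ M = ⊥ := Subalgebra.finrank_eq_one_iff.mp hb1
      obtain ⟨k, ⟨φ⟩⟩ := asgclif_matrix hn0 hG hM (fun z hz => by
        rw [hbot, Algebra.mem_bot] at hz
        obtain ⟨c, rfl⟩ := hz
        exact ⟨c, Algebra.algebraMap_eq_smul_one c⟩)
      obtain ⟨hk0, hkn⟩ := cent_matrix_le hn0 φ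
      rcases Nat.lt_or_ge 1 k with hk1 | hk1
      · rcases Nat.lt_or_ge k 12 with hlt | hge
        · -- tensor decomposition
          obtain ⟨d, e, P, hstd⟩ := std_embedding (n := 12) hk0
            ((centAlg M).val.comp (φ.symm : Matrix (Fin k) (Fin k) F →ₐ[F] centAlg M))
          have hnkd : 12 = k * d := by
            have := Fintype.card_congr e
            simpa using this
          have hGle : G ≤ tensorProductSubgroup k d e P :=
            (normalizes_cent hM).trans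
              (normalizer_le_tensor hk0 (centAlg M) φ e P (fun a => hstd a))
          have hstar : ∀ a : Matrix (Fin k) (Fin k) F, ∃ a' : Matrix (Fin k) (Fin k) F,
              oadj (⇑Q) ((P : Matrix (Fin 12) (Fin 12) F) *
                  Matrix.reindexAlgEquiv F F e.symm (a ⊗ₖ (1 : Matrix (Fin d) (Fin d) F)) *
                  ((P⁻¹ : GL (Fin 12) F) : Matrix (Fin 12) (Fin 12) F)) =
                (P : Matrix (Fin 12) (Fin 12) F) *
                  Matrix.reindexAlgEquiv F F e.symm (a' ⊗ₖ (1 : Matrix (Fin d) (Fin d) F)) *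
                  ((P⁻¹ : GL (Fin 12) F) : Matrix (Fin 12) (Fin 12) F) := by
            intro a
            have h1 : oadj (⇑Q) (((φ.symm a : centAlg M) : Matrix (Fin 12) (Fin 12) F)) ∈ centAlg M :=
              star_mem_cent Q hQ (hM.1.trans hGO) _ (φ.symm a).2
            refine ⟨φ ⟨_, h1⟩, ?_⟩
            have h2' := hstd (φ ⟨_, h1⟩)
            have h3 := hstd a
            have e2 : ((centAlg M).val.comp (φ.symm : Matrix (Fin k) (Fin k) F →ₐ[F] centAlg M)) (φ ⟨_, h1⟩) =
                oadj (⇑Q) (((φ.symm a : centAlg M) : Matrix (Fin 12) (Fin 12) F)) := by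
              change ((φ.symm (φ ⟨_, h1⟩) : centAlg M) : Matrix (Fin 12) (Fin 12) F) = _
              rw [AlgEquiv.symm_apply_apply]
            have e3 : ((centAlg M).val.comp (φ.symm : Matrix (Fin k) (Fin k) F →ₐ[F] centAlg M)) a =
                ((φ.symm a : centAlg M) : Matrix (Fin 12) (Fin 12) F) := rfl
            rw [← h3, ← h2', e2, e3]
          obtain ⟨A, B, hA, hB, hsign, hAB⟩ := etensor_gram hn0 Q hQ e P hstar
          have hkd : (k = 2 ∧ d = 6) ∨ (k = 6 ∧ d = 2) ∨ (k = 3 ∧ d = 4) ∨ (k = 4 ∧ d = 3) := by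
            clear hstd hGle hstar hAB hsign hA hB A B
            interval_cases k <;> omega
          -- the symmetric matrices in characteristic 2
          have hsym2 : (2 : F) = 0 → Aᵀ = A ∧ Bᵀ = B := by
            intro h2
            have hneg : ∀ {m : ℕ} (X : Matrix (Fin m) (Fin m) F), -X = X := by
              intro m X
              have h2' : (2 : F) • X = 0 := by rw [h2, zero_smul]
              rw [two_smul] at h2'
              exact neg_eq_of_add_eq_zero_left h2'
            rcases hsign with h | h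
            · exact h
            · exact ⟨by rw [h.1, hneg], by rw [h.2, hneg]⟩
          rcases hkd with ⟨rfl, rfl⟩ | ⟨rfl, rfl⟩ | ⟨rfl, rfl⟩ | ⟨rfl, rfl⟩
          · left
            refine tens_plus Q hQ (by decide) e P A B hA hB hsign hAB (fun h2 => ?_)
            obtain ⟨hAs, hBs⟩ := hsym2 h2
            obtain ⟨hAa, hBa⟩ := etensor_alt_char2 h2 Q hQ hG hGO (by norm_num) (by norm_num) e P hGle A B hA hB
              hAs hBs hAB
            exact etensor_pure_char2 h2 Q hQ hG hGO (by norm_num) (by norm_num) e P hGle A B hAa hBa hAs hBs hAB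
          · left
            have hAB' := kronGram_swap _ e P A B hAB
            have hGle' : G ≤ tensorProductSubgroup 2 6 (e.trans (Equiv.prodComm (Fin 6) (Fin 2))) P := by
              rw [← tensor_swap]; exact hGle
            have hsign' : (Bᵀ = B ∧ Aᵀ = A) ∨ (Bᵀ = -B ∧ Aᵀ = -A) := by
              rcases hsign with h | h
              · exact Or.inl ⟨h.2, h.1⟩
              · exact Or.inr ⟨h.2, h.1⟩
            refine tens_plus Q hQ (by decide) _ P B A hB hA hsign' hAB' (fun h2 => ?_)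
            obtain ⟨hAs, hBs⟩ := hsym2 h2
            obtain ⟨hBa, hAa⟩ := etensor_alt_char2 h2 Q hQ hG hGO (by norm_num) (by norm_num) _ P hGle' B A hB hA
              hBs hAs hAB'
            exact etensor_pure_char2 h2 Q hQ hG hGO (by norm_num) (by norm_num) _ P hGle' B A hBa hAa hBs hAs hAB'
          · rcases e12_tens34 Q hQ hG hGO e P hGle A B hA hB hsign hAB with h | h
            · exact Or.inl h
            · exact Or.inr (Or.inr (Or.inr (Or.inl h)))
          · have hAB' := kronGram_swap _ e P A B hAB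
            have hGle' : G ≤ tensorProductSubgroup 3 4 (e.trans (Equiv.prodComm (Fin 4) (Fin 3))) P := by
              rw [← tensor_swap]; exact hGle
            have hsign' : (Bᵀ = B ∧ Aᵀ = A) ∨ (Bᵀ = -B ∧ Aᵀ = -A) := by
              rcases hsign with h | h
              · exact Or.inl ⟨h.2, h.1⟩
              · exact Or.inr ⟨h.2, h.1⟩
            rcases e12_tens34 Q hQ hG hGO _ P hGle' B A hB hA hsign' hAB' with h | h
            · exact Or.inl h
            · exact Or.inr (Or.inr (Or.inr (Or.inl h)))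
        · have hkn' : k = 12 := le_antisymm hkn hge
          subst hkn'
          exact Or.inr (Or.inr (Or.inr (Or.inr (Or.inl (scalar_of_cent_full φ)))))
      · have hk : k = 1 := by omega
        subst hk
        exact Or.inr (Or.inr (Or.inr (Or.inr (Or.inr (absIrr_of_cent_one hG hM φ)))))
  · push Not at hidem
    obtain ⟨e0, he0, hid0, h00, h01⟩ := hidem
    rcases e12_idem Q hQ hG hGO hM e0 he0 hid0 h00 h01 with h | h
    · exact Or.inl h
    · exact Or.inr (Or.inl h)

/-- characteristic 2 : the field has even order -/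
theorem em12_not_odd_of_two (h2 : (2 : F) = 0) : ¬ Odd (Fintype.card F) := fun hodd =>
  Cfsg.Agent.S0292.two_ne_zero_of_odd rfl hodd h2

/-- a non-singular vector spans a non-degenerate line when `2 ≠ 0` -/
theorem em12_span_nd (h2 : (2 : F) ≠ 0) (Q : QuadraticForm F (Fin n → F)) (v : Fin n → F) (hv : Q v ≠ 0) :
    IsNondegenerateOn (QuadraticMap.polar (⇑Q)) (Submodule.span F {v}) := by
  have hvv : QuadraticMap.polar (⇑Q) v v = 2 * Q v := by
    have := QuadraticMap.polar_self Q v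
    rw [this, two_smul, two_mul]
  intro w hw hw0
  obtain ⟨c, rfl⟩ := Submodule.mem_span_singleton.mp hw
  have hc : c ≠ 0 := by
    rintro rfl
    exact hw0 (zero_smul _ _)
  refine ⟨⟨v, Submodule.mem_span_singleton_self v, ?_⟩, ⟨v, Submodule.mem_span_singleton_self v, ?_⟩⟩
  · rw [QuadraticMap.polar_smul_right, hvv, smul_eq_mul]
    exact mul_ne_zero hc (mul_ne_zero h2 hv)
  · rw [QuadraticMap.polar_smul_left, hvv, smul_eq_mul]
    exact mul_ne_zero hc (mul_ne_zero h2 hv)

/-- the line spanned by a non-singular vector -/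
theorem em12_span_facts (hn : 2 ≤ n) (Q : QuadraticForm F (Fin n → F)) (v : Fin n → F) (hv : Q v ≠ 0) :
    Submodule.span F {v} ≠ ⊥ ∧ Submodule.span F {v} ≠ ⊤ ∧ Module.finrank F (Submodule.span F {v}) = 1 := by
  have hv0 : v ≠ 0 := by
    rintro rfl
    exact hv (map_zero Q)
  have hfr : Module.finrank F (Submodule.span F {v}) = 1 := finrank_span_singleton hv0
  refine ⟨?_, ?_, hfr⟩
  · intro h
    rw [h, finrank_bot] at hfr
    omega
  · intro h
    rw [h, finrank_top, Module.finrank_fintype_fun_eq_card, Fintype.card_fin] at hfr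
    omega

/-- a subspace of dimension strictly between `0` and `n` is proper and non-zero -/
theorem em12_proper {W : Submodule F (Fin n → F)} {d : ℕ} (hd : Module.finrank F W = d) (h0 : 0 < d) (h1 : d < n) :
    W ≠ ⊥ ∧ W ≠ ⊤ := by
  refine ⟨?_, ?_⟩
  · intro h
    rw [h, finrank_bot] at hd
    omega
  · intro h
    rw [h, finrank_top, Module.finrank_fintype_fun_eq_card, Fintype.card_fin] at hd
    omega

/-- D1 : a minimal non-scalar normal subgroup which is absolutely irreducible with scalar commutators forces `n ^ 2` to be a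
prime power (`d1_elab` : `N` modulo scalars has prime exponent `r`; `d1_order` : it has order `n ^ 2`) -/
theorem em12_d1_card (hn : 0 < n) {H N : Subgroup (GL (Fin n) F)} (hN : MinNonscalar N H) (hA : AbsIrr N)
    (hab : ⁅N, N⁆ ≤ scalars (Fin n) F) : ∃ r j : ℕ, r.Prime ∧ n ^ 2 = r ^ j := by
  obtain ⟨r, hr, hel⟩ := d1_elab hN hab
  have hord := d1_order hn hA hab
  have _hsn : (scalars (Fin n) F).Normal := Cfsg.Agent.Lib.Helper28.SubF.scalars_normal
  have _hfr : Fact r.Prime := ⟨hr⟩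
  have hp : IsPGroup r (N ⧸ (scalars (Fin n) F).subgroupOf N) := by
    intro g
    refine ⟨1, ?_⟩
    induction g using QuotientGroup.induction_on with
    | H x =>
      rw [pow_one, ← QuotientGroup.mk_pow, QuotientGroup.eq_one_iff, Subgroup.mem_subgroupOf]
      simpa using hel x x.2
  obtain ⟨j, hj⟩ := IsPGroup.iff_card.mp hp
  exact ⟨r, j, hr, by rw [← hord, hj]⟩

/-- D1 is impossible in dimension 12 -/
theorem em12_d1_false {H N : Subgroup (GL (Fin 12) F)} (hN : MinNonscalar N H) (hA : AbsIrr N)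
    (hab : ⁅N, N⁆ ≤ scalars (Fin 12) F) : False := by
  obtain ⟨r, j, hr, hj⟩ := em12_d1_card (by norm_num) hN hA hab
  have h2 : 2 ∣ r ^ j := by rw [← hj]; norm_num
  have h3 : 3 ∣ r ^ j := by rw [← hj]; norm_num
  have e2 := (Nat.prime_dvd_prime_iff_eq Nat.prime_two hr).mp (Nat.prime_two.dvd_of_dvd_pow h2)
  have e3 := (Nat.prime_dvd_prime_iff_eq Nat.prime_three hr).mp (Nat.prime_three.dvd_of_dvd_pow h3)
  omega

/-- S5874 over a bundled form -/
theorem e12_fin (Q : QuadraticForm F (Fin 12 → F)) (hQ : (QuadraticMap.polarBilin Q).Nondegenerate)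
    (hminus : ¬ IsPlusTypeOn (⇑Q) ⊤) (H : Subgroup (GL (Fin 12) F))
    (hH : IsMaximalIn (omegaGL (⇑Q)) H) : ConclE12 (⇑Q) H := by
  classical
  have hHΩ : H ≤ omegaGL (⇑Q) := hH.1.le
  have hHO : H ≤ isometryGroup F (⇑Q) := hHΩ.trans (omega_le_iso _)
  have hstab : ∀ W : Submodule F (Fin 12 → F), W ≠ ⊥ → W ≠ ⊤ → H ≤ subspaceStabilizer W →
      H = subspaceStabilizer W ⊓ omegaGL (⇑Q) := fun W h0 h1 hle =>
    max_principle hH hle (omega_not_le_stab' (by norm_num) Q hQ W h0 h1)
  -- a non-singular vector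
  have hvec : ∀ v : Fin 12 → F, Q v ≠ 0 → H ≤ subspaceStabilizer (Submodule.span F {v}) → ConclE12 (⇑Q) H := by
    intro v hv hle
    obtain ⟨h0, h1, hfr⟩ := em12_span_facts (by norm_num) Q v hv
    by_cases h2 : (2 : F) = 0
    · exact Or.inr (Or.inr (Or.inr (Or.inr (Or.inr (Or.inr (Or.inl
        ⟨em12_not_odd_of_two h2, v, hv, hstab _ h0 h1 hle⟩))))))
    · exact Or.inr (Or.inl ⟨asco_odd_card h2, _, h0, h1, by rw [hfr]; exact odd_one, by rw [hfr]; norm_num,
        em12_span_nd h2 Q v hv, hstab _ h0 h1 hle⟩)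
  -- a non-degenerate plane
  have hplane : ∀ W : Submodule F (Fin 12 → F), Module.finrank F W = 2 →
      IsNondegenerateOn (QuadraticMap.polar (⇑Q)) W → H ≤ subspaceStabilizer W → ConclE12 (⇑Q) H := by
    intro W hd hnd hle
    obtain ⟨h0, h1⟩ := em12_proper hd (by norm_num) (by norm_num)
    by_cases hp : IsPlusTypeOn (⇑Q) W
    · by_cases h4 : 4 ≤ Fintype.card F
      · exact Or.inr (Or.inr (Or.inr (Or.inl ⟨h4, W, hd, hnd, hp, hstab W h0 h1 hle⟩)))
      · obtain ⟨v, -, hv, hst⟩ := plus_plane_small Q hQ (by omega) W hnd hd hp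
        exact hvec v hv ((le_inf hle hHO).trans hst)
    · exact Or.inr (Or.inr (Or.inl ⟨W, hd, hnd, hp, hstab W h0 h1 hle⟩))
  -- a non-degenerate 4-space
  have hfour : ∀ W : Submodule F (Fin 12 → F), Module.finrank F W = 4 →
      IsNondegenerateOn (QuadraticMap.polar (⇑Q)) W → H ≤ subspaceStabilizer W → ConclE12 (⇑Q) H := by
    intro W hd hnd hle
    obtain ⟨h0, h1⟩ := em12_proper hd (by norm_num) (by norm_num)
    exact Or.inr (Or.inr (Or.inr (Or.inr (Or.inl ⟨W, hd, hnd, hstab W h0 h1 hle⟩))))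
  by_cases hirr : Irr H
  swap
  · -- Stage A
    rcases ered_case Q hQ hHO hirr with ⟨W, h0, hts, hle⟩ | ⟨W, h0, h1, hnd, hle⟩ | ⟨h2, v, hv, hle⟩
    · exact Or.inl ⟨W, h0, hts, hstab W h0 (em12_ts_ne_top (by norm_num) Q hQ W hts) hle⟩
    · -- non-degenerate subspaces, by dimension
      have hlt : Module.finrank F W < 12 := by
        have h := Submodule.finrank_lt h1
        rwa [Module.finrank_fintype_fun_eq_card, Fintype.card_fin] at h
      have hpos : 0 < Module.finrank F W := Module.finrank_pos_iff_exists_ne_zero.mpr (by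
        obtain ⟨w, hw, hw0⟩ := (Submodule.ne_bot_iff W).mp h0
        exact ⟨⟨w, hw⟩, fun h => hw0 (congrArg Subtype.val h)⟩)
      rcases Nat.even_or_odd (Module.finrank F W) with hev | hodd
      · obtain ⟨j, hj⟩ := hev
        have hj' : j = 1 ∨ j = 2 ∨ j = 3 ∨ j = 4 ∨ j = 5 := by omega
        rcases hj' with rfl | rfl | rfl | rfl | rfl
        · exact hplane W (by omega) hnd hle
        · exact hfour W (by omega) hnd hle
        · exact Or.inr (Or.inr (Or.inr (Or.inr (Or.inr (Or.inl ⟨W, by omega, hnd, hstab W h0 h1 hle⟩)))))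
        · obtain ⟨W', hdim, hnd', hst⟩ := end_perp Q hQ W hnd
          exact hfour W' (by omega) hnd' ((le_inf hle hHO).trans hst)
        · obtain ⟨W', hdim, hnd', hst⟩ := end_perp Q hQ W hnd
          exact hplane W' (by omega) hnd' ((le_inf hle hHO).trans hst)
      · exact Or.inr (Or.inl ⟨odd_card_of_nd_odd Q W hnd hodd, W, h0, h1, hodd, by
          obtain ⟨j, hj⟩ := hodd
          omega, hnd, hstab W h0 h1 hle⟩)
    · exact hvec v hv hle
  -- Stage B
  by_cases hfld : Fld23 H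
  · obtain ⟨K, hK, hle⟩ := hfld
    rcases hK with hK | hK
    · exact Or.inr (Or.inr (Or.inr (Or.inr (Or.inr (Or.inr (Or.inr (Or.inr (Or.inl ⟨K, hK, max_principle hH hle
        (omega_not_le_field' (by norm_num) Q hQ (le_refl 2) K hK)⟩))))))))
    · exact Or.inr (Or.inr (Or.inr (Or.inr (Or.inr (Or.inr (Or.inr (Or.inr (Or.inr (Or.inl ⟨K, hK,
        max_principle hH hle (omega_not_le_field' (by norm_num) Q hQ (by norm_num) K hK)⟩)))))))))
  by_cases hdec : Dec34 (⇑Q) H
  · obtain ⟨D, hD, hnp, hle⟩ := hdec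
    exact Or.inr (Or.inr (Or.inr (Or.inr (Or.inr (Or.inr (Or.inr (Or.inl ⟨D, hD, hnp, max_principle hH hle
      (omega_not_le_dec3 (by norm_num) Q hQ (by norm_num) D hD.decomp.decomp)⟩)))))))
  by_cases htens : Tens34 (⇑Q) H
  · obtain ⟨e, P, A, B, h2, hA, hB, hAs, hBs, hAB, hle⟩ := htens
    have hodd : Odd (Fintype.card F) := asco_odd_card h2
    by_cases h5 : 5 ≤ Fintype.card F
    · obtain ⟨f₁, f₂, hf₁, hf₂, hnp, hT⟩ :=
        Cfsg.Agent.Lib.Lead.E12M.etens_form h2 Q hQ hminus e P A B hA hB hAs hBs hAB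
      exact Or.inr (Or.inr (Or.inr (Or.inr (Or.inr (Or.inr (Or.inr (Or.inr (Or.inr (Or.inr (Or.inl ⟨hodd, h5, e, P,
        f₁, f₂, hf₁, hf₂, hnp, hT, max_principle hH hle
          (omega_not_le_tensor (by norm_num) Q hQ (by norm_num) (by norm_num) e P)⟩))))))))))
    · exfalso
      have h3 : Fintype.card F = 3 := by
        have h1 : 1 < Fintype.card F := Fintype.one_lt_card
        obtain ⟨j, hj⟩ := hodd
        omega
      obtain ⟨D, hD, hst⟩ := Cfsg.Agent.Lib.Lead.E12M.tens3_q3 h3 Q hQ hHO (by norm_num) e P hle A B hA hB hAs hBs hAB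
      exact hdec ⟨D, hD, fun i hp => hminus (Cfsg.Agent.Lib.Lead.E12M.plus_of_block_plus Q D hD i hp), hst⟩
  have hD : AllNormalAbsIrr H := by
    intro N hN
    rcases e12_dichotomy Q hQ hirr hHO hN with h | h | h | h | h | h
    · exact absurd h hminus
    · exact absurd h hdec
    · exact absurd h hfld
    · exact absurd h htens
    · exact Or.inl h
    · exact Or.inr h
  obtain ⟨N, hNmin⟩ := exists_minNonscalar H (irr_not_scalar (by norm_num) hirr)
  have hNn : NormalIn N H := hNmin.1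
  have hNO : N ≤ isometryGroup F (⇑Q) := hNn.1.trans hHO
  have hA : AbsIrr N := (hD N hNn).resolve_left hNmin.2.1
  have hcomm := commutator_normalIn hNn
  rcases hNmin.2.2 _ hcomm (Subgroup.commutator_le_self N) with hab | hperf
  · -- D1
    exfalso
    exact em12_d1_false hNmin hA hab
  · -- D2
    have hfix : ∀ h ∈ H, ∀ v : Fin 12 → F, Q ((h : Matrix (Fin 12) (Fin 12) F) *ᵥ v) = Q v :=
      fun h hh v => hHO hh v v
    rcases Cfsg.Agent.Lib.Helper9.QD2T.quad_perfect_rows (Or.inr (Or.inr rfl)) (⇑Q)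
      (isNondegenerateQuadraticForm_coe Q hQ) hfix hirr hD hNmin hperf with ⟨hsimp, hnab⟩ | ⟨h8, -, -⟩
    swap
    · omega
    by_cases hsub : ∃ F₀ : Subfield F, F₀ ≠ ⊤ ∧ RealisableOver F₀ (matrixSet N)
    · obtain ⟨F₀, h0, hR⟩ := hsub
      obtain ⟨F₁, ℓ, B, ζ, hℓ, hcard, hζ, hrat, hle⟩ := equad_rational (by norm_num) Q hQ hNn hA hHO F₀ h0 hR
      by_cases hℓ2 : ℓ = 2
      · subst hℓ2
        by_cases h2 : (2 : F) = 0
        · exact absurd (sub2_plus_even h2 (by decide) Q hQ F₁ hcard B ζ hζ hrat) hminus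
        · exact absurd (sub2_plus_odd h2 (by decide) Q hQ F₁ hcard B ζ hζ hrat) hminus
      · exact Or.inr (Or.inr (Or.inr (Or.inr (Or.inr (Or.inr (Or.inr (Or.inr (Or.inr (Or.inr (Or.inr (Or.inl ⟨F₁, ℓ,
          B, ζ, hℓ, hℓ.odd_of_ne_two hℓ2, hcard, hζ, hrat, max_principle hH hle
            (omega_not_le_subfield' (by norm_num) Q hQ F₁ (asco_ne_top_of_card_pow hℓ hcard) B)⟩)))))))))))
    · -- residual
      refine Or.inr (Or.inr (Or.inr (Or.inr (Or.inr (Or.inr (Or.inr (Or.inr (Or.inr (Or.inr (Or.inr (Or.inr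
        ⟨N, ⟨hNn.1, hNn.2, hperf, hsimp, hnab, centralizer_scalar_of hNn hperf hA, hA, ?_⟩, ?_⟩)))))))))))
      · intro F₀ h0 hR
        exact hsub ⟨F₀, h0, hR⟩
      · rintro ⟨σ, f, hf, hfix'⟩
        exact hsub (equad_unitary_realisable Q hQ hA hNO σ f hf hfix')

/-- S5874 (the statement of `Cfsg/Templates/S5874.lean.txt`, conclusion folded as `ConclE12`) -/
theorem s5874 {F : Type*} [Field F] [Fintype F] (Q : (Fin 12 → F) → F) (hQ : IsNondegenerateQuadraticForm Q)
    (hminus : ¬ IsPlusTypeOn Q ⊤) (H : Subgroup (GL (Fin 12) F)) (hH : IsMaximalIn (omegaGL Q) H) :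
    ConclE12 Q H := by
  have := e12_fin (Cfsg.Agent.Lib.Helper28.OBundle.bundle Q hQ)
    (Cfsg.Agent.Lib.Helper28.OBundle.bundle_nondeg Q hQ) hminus H hH
  exact this

end Cfsg.Agent.Lib.helper7.EM12
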